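import Mathlib
import Cfsg.Prelude.Def_Local
import Cfsg.Prelude.Def_Transfer

/-!
# Project PGV (S3086, owner helper26), sub-project RED (helper41): definitions

`S3086`: a best offender `A` on a faithful `F_p G`-module `V` normalizes every component of `G`.
Paper proof: `notes/helper26_S3086_proof.md`.  The induction is on `|V| + |A|` over all triples `(G, V, A)` with `G V : Type v`.
-/

set_option autoImplicit false

universe v

namespace Cfsg.Agent.Lib.Helper41.PGV

open Cfsg

section defs

variable {p : ℕ} [Fact p.Prime] {G V : Type*} [Group G] [AddCommGroup V] [Module (ZMod p) V]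

/-- the fixed points `C_V(X)` of a set `X` of group elements -/
def fix (ρ : Representation (ZMod p) G V) (X : Set G) : Submodule (ZMod p) V where
  carrier := {v | ∀ x ∈ X, ρ x v = v}
  add_mem' := fun {u w} hu hw x hx => by rw [map_add, hu x hx, hw x hx]
  zero_mem' := fun x _ => map_zero _
  smul_mem' := fun c v hv x hx => by rw [map_smul, hv x hx]

theorem mem_fix (ρ : Representation (ZMod p) G V) (X : Set G) (v : V) : v ∈ fix ρ X ↔ ∀ x ∈ X, ρ x v = v := Iff.rfl

/-- `j(B) = |B| · |C_V(B)|` -/
noncomputable def jj (ρ : Representation (ZMod p) G V) (B : Subgroup G) : ℕ :=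
  Nat.card B * Nat.card (fix ρ (B : Set G))

/-- `A` is a best offender on `V`: `j(B) ≤ j(A)` for all `B ≤ A` -/
def BestOffender (ρ : Representation (ZMod p) G V) (A : Subgroup G) : Prop :=
  ∀ B : Subgroup G, B ≤ A → jj ρ B ≤ jj ρ A

/-- `q` is `A`-quadratic: `(q - 1)(b - 1) = 0` for all `b ∈ A` (the elements of `A* = C_A([V, A])`) -/
def QuadOn (ρ : Representation (ZMod p) G V) (A : Subgroup G) (q : G) : Prop :=
  ∀ b ∈ A, (ρ q - 1) * (ρ b - 1) = 0

/-- `A* = C_A([V, A])` -/
def Astar (ρ : Representation (ZMod p) G V) (A : Subgroup G) : Set G := {q | q ∈ A ∧ QuadOn ρ A q}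

end defs

/-- the P(G,V)-theorem for all triples `(G, V, A)` in the universe `v` with `|V| + |A| < n` -/
def Holds (p : ℕ) [Fact p.Prime] (n : ℕ) : Prop :=
  ∀ (G V : Type v) [Group G] [Finite G] [AddCommGroup V] [Finite V] [Module (ZMod p) V]
    (ρ : Representation (ZMod p) G V), Function.Injective ρ → ∀ A : Subgroup G, A ≠ ⊥ → IsElementaryAbelian p A →
    BestOffender ρ A → Nat.card V + Nat.card A < n →
    ∀ K : Subgroup G, IsComponent K → A ≤ Subgroup.normalizer (K : Set G)

/-- a minimal counterexample: `K1` a component of `G`, `a ∈ A` moves `K1` -/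
structure CE {p : ℕ} [Fact p.Prime] {G V : Type v} [Group G] [AddCommGroup V] [Module (ZMod p) V]
    (ρ : Representation (ZMod p) G V) (A K1 : Subgroup G) (a : G) : Prop where
  inj : Function.Injective ρ
  el : IsElementaryAbelian p A
  off : BestOffender ρ A
  comp : IsComponent K1
  mem : a ∈ A
  move : K1.map (MulAut.conj a).toMonoidHom ≠ K1
  ih : Holds.{v} p (Nat.card V + Nat.card A)

end Cfsg.Agent.Lib.Helper41.PGV
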