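import Mathlib
import Cfsg.Prelude.Def_Local
import Cfsg.Prelude.Def_Transfer
import Cfsg.Agent.Lib.Helper41.PGV.Defs

/-!
# Project PGV (S3086), sub-project RED (helper41): definitions for the case `p = 2` (sections of `V`, the diagonal `Δ`)
-/

set_option autoImplicit false

universe v

namespace Cfsg.Agent.Lib.Helper41.PGV

open Cfsg

variable {p : ℕ} [Fact p.Prime] {G V : Type*} [Group G] [AddCommGroup V] [Module (ZMod p) V]

/-- `K^b = b K b⁻¹` -/
def cj (K : Subgroup G) (b : G) : Subgroup G := K.map (MulAut.conj b).toMonoidHom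

theorem mem_cj {K : Subgroup G} {b y : G} : y ∈ cj K b ↔ ∃ x ∈ K, y = b * x * b⁻¹ := by
  unfold cj
  constructor
  · rintro ⟨x, hx, rfl⟩
    exact ⟨x, hx, rfl⟩
  · rintro ⟨x, hx, rfl⟩
    exact ⟨x, hx, rfl⟩

/-- the diagonal `Δ = {x x^a | x ∈ K1}` of `K1 K1^a` (a subgroup when `K1` and `K1^a` commute; defined as a closure) -/
def Delta (K1 : Subgroup G) (a : G) : Subgroup G := Subgroup.closure {u | ∃ x ∈ K1, u = x * (a * x * a⁻¹)}

/-- `B = N_A(K1)` -/
def NA (A K1 : Subgroup G) : Subgroup G := A ⊓ Subgroup.normalizer (K1 : Set G)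

/-- `G0 = ⟨K1, K1^a, A⟩` -/
def G0 (A K1 : Subgroup G) (a : G) : Subgroup G := K1 ⊔ cj K1 a ⊔ A

/-- `U` is invariant under the subgroup `H` -/
def Inv (ρ : Representation (ZMod p) G V) (H : Subgroup G) (U : Submodule (ZMod p) V) : Prop :=
  ∀ g ∈ H, ∀ u ∈ U, ρ g u ∈ U

/-- the section `V' / V''` (no condition `V'' ≤ V'` needed for the definition) -/
abbrev Sec (V' V'' : Submodule (ZMod p) V) : Type _ := ↥V' ⧸ (V''.comap V'.subtype)

/-- the action of `H` on the section `V' / V''` -/
noncomputable def secRep (ρ : Representation (ZMod p) G V) (H : Subgroup G) (V' V'' : Submodule (ZMod p) V)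
    (h' : Inv ρ H V') (h'' : Inv ρ H V'') : Representation (ZMod p) ↥H (Sec V' V'') :=
  Representation.quotient
    (Representation.subrepresentation (ρ.comp H.subtype : Representation (ZMod p) ↥H V) V'
      (fun g v hv => h' g.1 g.2 v hv))
    (V''.comap V'.subtype) (fun g v hv => h'' g.1 g.2 v.1 hv)

theorem secRep_mk (ρ : Representation (ZMod p) G V) (H : Subgroup G) (V' V'' : Submodule (ZMod p) V)
    (h' : Inv ρ H V') (h'' : Inv ρ H V'') (g : H) (v : V') :
    secRep ρ H V' V'' h' h'' g (Submodule.Quotient.mk v) =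
      Submodule.Quotient.mk (⟨ρ g.1 v.1, h' g.1 g.2 v.1 v.2⟩ : V') := rfl

/-- irreducibility of a representation: the module is non-zero and has no proper non-zero invariant submodule -/
def Irred {H W : Type*} [Group H] [AddCommGroup W] [Module (ZMod p) W] (σ : Representation (ZMod p) H W) : Prop :=
  Nontrivial W ∧ ∀ U : Submodule (ZMod p) W, (∀ g : H, ∀ u ∈ U, σ g u ∈ U) → U = ⊥ ∨ U = ⊤

end Cfsg.Agent.Lib.Helper41.PGV
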