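import Mathlib
import Cfsg.Prelude.Def_Local
import Cfsg.Prelude.Def_Transfer
import Cfsg.Agent.Lib.Helper41.PGV.Defs

/-!
# Project PGV (S3086), sub-project RED, leaf [MAIN] (helper41): the induction, in `_of` form

`holds_all_of`: if no minimal counterexample `CE` exists (hypothesis `hce`, = `ce_false_odd` + `ce_false_two` of the sheet) then `Holds p n` for all `n`,
and THEOREM-GL follows (`theoremGL_of`).
-/

set_option autoImplicit false

universe v

namespace Cfsg.Agent.Lib.Helper41.PGV

open Cfsg

/-- the hypothesis "there is no minimal counterexample" -/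
def NoCE (p : ℕ) [Fact p.Prime] : Prop :=
  ∀ (G V : Type v) [Group G] [Finite G] [AddCommGroup V] [Finite V] [Module (ZMod p) V]
    (ρ : Representation (ZMod p) G V) (A K1 : Subgroup G) (a : G), CE ρ A K1 a → False

theorem holds_all_of (p : ℕ) [Fact p.Prime] (hce : NoCE.{v} p) (n : ℕ) : Holds.{v} p n := by
  induction n with
  | zero =>
    intro G V _ _ _ _ _ ρ _ A _ _ _ hlt
    exact absurd hlt (Nat.not_lt_zero _)
  | succ n ih =>
    intro G V _ _ _ _ _ ρ hinj A hA hel hoff hlt K hK
    by_cases hlt' : Nat.card V + Nat.card A < n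
    · exact ih G V ρ hinj A hA hel hoff hlt' K hK
    · have hn : Nat.card V + Nat.card A = n := by omega
      by_contra hcon
      -- some `a ∈ A` does not normalize `K`
      obtain ⟨a, haA, haN⟩ := SetLike.not_le_iff_exists.mp hcon
      -- then `K^a ≠ K`
      have hmove : K.map (MulAut.conj a).toMonoidHom ≠ K := by
        intro heq
        apply haN
        rw [Subgroup.mem_normalizer_iff]
        intro x
        constructor
        · intro hx
          rw [← heq]
          exact ⟨x, hx, rfl⟩
        · intro hx
          rw [← heq] at hx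
          obtain ⟨y, hy, hyx⟩ := hx
          have : y = x := by
            have h1 : a * y * a⁻¹ = a * x * a⁻¹ := hyx
            have h2 := mul_right_cancel h1
            exact mul_left_cancel h2
          rw [← this]
          exact hy
      exact hce G V ρ A K a ⟨hinj, hel, hoff, hK, haA, hmove, hn ▸ ih⟩

/-- THEOREM-GL from the non-existence of a minimal counterexample -/
theorem theoremGL_of {G V : Type v} [Group G] [Finite G] [AddCommGroup V] [Finite V] (p : ℕ) [Fact p.Prime] [Module (ZMod p) V]
    (hce : NoCE.{v} p)
    (ρ : Representation (ZMod p) G V) (hρ : Function.Injective ρ) (A : Subgroup G) (hA : A ≠ ⊥) (hAel : IsElementaryAbelian p A)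
    (hP : ∀ B : Subgroup G, B ≤ A →
      Nat.card ↥B * Nat.card {v : V // ∀ b ∈ B, ρ b v = v} ≤ Nat.card ↥A * Nat.card {v : V // ∀ a ∈ A, ρ a v = v}) :
    ∀ K : Subgroup G, IsComponent K → A ≤ Subgroup.normalizer (K : Set G) :=
  holds_all_of p hce (Nat.card V + Nat.card A + 1) G V ρ hρ A hA hAel (fun B hB => hP B hB) (Nat.lt_succ_self _)

end Cfsg.Agent.Lib.Helper41.PGV
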