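import Mathlib
import Cfsg.Prelude.Def_Local
import Cfsg.Prelude.Def_Transfer
import Cfsg.Agent.Lib.Helper41.PGV.Defs
import Cfsg.Agent.Lib.Helper41.PGV.Defs2
import Cfsg.Agent.Lib.Helper41.PGV.Main
import Cfsg.Agent.Lib.Helper22.Components
import Cfsg.Agent.Lib.Helper95.PgvT5
import Cfsg.Agent.Lib.Helper95.PgvDelta
import Cfsg.Agent.Lib.Helper39.PgvLocExact
import Cfsg.Agent.Lib.Helper25.PgvRedD
import Cfsg.Agent.Lib.Helper51.PgvRedQExact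
import Cfsg.Agent.Lib.Helper14.PgvT4Rep
import Cfsg.Agent.Lib.Helper98.PgvOddAsm
import Cfsg.Agent.Lib.Helper89.PgvRed3Of
import Cfsg.Agent.Lib.Helper43.PgvRed5
import Cfsg.Agent.Lib.Helper43.PgvDeltaTriv
import Cfsg.Agent.Lib.Helper24.PgvHdSec
import Cfsg.Agent.Lib.Helper24.PgvG0Gen
import Cfsg.Agent.Lib.Helper24.PgvOff
import Cfsg.Agent.Lib.Helper64.PgvSecIneq
import Cfsg.Agent.Lib.Helper6.PgvWExists

/-!
# Project PGV (S3086), sub-project RED (helper41): the leaves of `RED_SHEET1/2` assembled in exact form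

All the `_of` leaves landed by the swarm are instantiated here: `red_D`, `comm_gen`, `ce_false_odd`, `red_3`, `red_3_cor`, `red_5`,
`delta_triv`, `g0_gen`, `off_section`.
-/

set_option autoImplicit false

universe v

namespace Cfsg.Agent.Lib.Helper41.PGV.Red

open Cfsg Cfsg.Agent.Lib.Helper41.PGV

variable {p : ℕ} [Fact p.Prime] {G V : Type v} [Group G] [Finite G] [AddCommGroup V] [Finite V] [Module (ZMod p) V]
  {ρ : Representation (ZMod p) G V} {A K1 : Subgroup G} {a : G}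

/-- **[RED-D]** -/
theorem red_D (h : CE ρ A K1 a) (D : Subgroup G) (hDA : D ≤ A) (hD : D ≠ ⊥)
    (hcent : ∀ d ∈ D, ∀ x ∈ K1, d * x = x * d) : False :=
  H25.red_D_of (fun hL hM hne => components_commute hL hM hne)
    (fun D H L h1 h2 h3 h4 h5 h6 b hb hc => H39.loc h.inj h.el h.off h.ih D H L h1 h2 h3 h4 h5 h6 b hb hc)
    h D hDA hD hcent

/-- **[RED-D-COR]** -/
theorem comm_gen (h : CE ρ A K1 a) (q : G) (hqA : q ∈ A) (hq1 : q ≠ 1) (hqN : q ∈ Subgroup.normalizer (K1 : Set G)) :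
    K1 ≤ Subgroup.closure {u | ∃ x ∈ K1, u = q⁻¹ * x⁻¹ * q * x} :=
  H25.comm_gen_of (fun hL q h1 h2 h3 => comm_gen_of_not_centralizes hL q h1 h2 h3)
    (fun D hDA hD hcent => red_D h D hDA hD hcent) h q hqA hq1 hqN

/-- **[ODD-ASM]** -/
theorem ce_false_odd (hp : p ≠ 2) (h : CE ρ A K1 a) : False :=
  Cfsg.Agent.Lib.Helper98.PGV.ce_false_odd_of hp h
    (fun hA => Cfsg.Agent.Lib.Helper14.Pgv.timmesfeld_rep h.inj h.el h.off hA)
    (fun q hqA hquad => Cfsg.Agent.Lib.Helper51.PGV.red_Q hp h q hqA hquad)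
    (fun q hqA hq1 hqN => comm_gen h q hqA hq1 hqN)

/-- **[RED-3]** -/
theorem red_3 (hp : p = 2) (h : CE ρ A K1 a) (b : G) (hb : b ∈ A) : cj K1 b = K1 ∨ cj K1 b = cj K1 a :=
  Cfsg.Agent.Lib.Helper89.PgvRed3.red_3_of h
    (fun D H L h1 h2 h3 h4 h5 h6 b hb hc => H39.loc h.inj h.el h.off h.ih D H L h1 h2 h3 h4 h5 h6 b hb hc)
    (delta_basic hp h).2.1 (fun b hb => (delta_conj hp h b hb).2) (delta_comp hp h) b hb

/-- **[RED-3-COR]** -/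
theorem red_3_cor (hp : p = 2) (h : CE ρ A K1 a) :
    (∀ b ∈ A, b ∈ NA A K1 ∨ a * b ∈ NA A K1) ∧ Nat.card A = 2 * Nat.card (NA A K1) :=
  Cfsg.Agent.Lib.Helper89.PgvRed3.red_3_cor_of hp h (fun b hb => red_3 hp h b hb)

/-- **[RED-5]** -/
theorem red_5 (hp : p = 2) (h : CE ρ A K1 a) :
    (∃ Q : Subgroup G, Q ≤ NA A K1 ∧ Q ≠ ⊥ ∧ ∀ q ∈ Q, (ρ q - 1) * (ρ a - 1) = 0) ∨
    (NA A K1 = ⊥ ∧ Nat.card V ≤ 2 * Nat.card (fix ρ ({a} : Set G))) :=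
  Cfsg.Agent.Lib.Helper43.PGV.red_5_of h
    (Cfsg.Agent.Lib.Helper14.Pgv.timmesfeld_rep h.inj h.el h.off (Cfsg.Agent.Lib.Helper43.PGV.ce_ne_bot h))
    (red_3_cor hp h).2

/-- **[DELTA-TRIV]** -/
theorem delta_triv (hp : p = 2) (h : CE ρ A K1 a) (x : G) (hx : x ∈ K1) :
    (ρ (x * (a * x * a⁻¹)) - 1) * (ρ a - 1) = 0 :=
  Cfsg.Agent.Lib.Helper43.PGV.delta_triv_of h (red_5 hp h) (delta_basic hp h).2.1 (delta_basic hp h).2.2
    (fun D hDA hD hcent => red_D h D hDA hD hcent) x hx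

/-- **[G0-GEN]** -/
theorem g0_gen (hp : p = 2) (h : CE ρ A K1 a) :
    K1 ≤ G0 A K1 a ∧ cj K1 a ≤ G0 A K1 a ∧ A ≤ G0 A K1 a ∧
      G0 A K1 a = K1 ⊔ cj K1 a ⊔ NA A K1 ⊔ Subgroup.zpowers a :=
  Cfsg.Agent.Lib.Helper24.Pgv.g0_gen_of h.mem (red_3_cor hp h).1

/-- **[OFF]** -/
theorem off_section (hp : p = 2) (h : CE ρ A K1 a) (V' V'' : Submodule (ZMod p) V) (h' : Inv ρ (G0 A K1 a) V')
    (h'' : Inv ρ (G0 A K1 a) V'') (hle : V'' ≤ V') :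
    Nat.card (Sec V' V'') ≤ 2 * Nat.card (NA A K1) *
      Nat.card (fix (secRep ρ (G0 A K1 a) V' V'' h' h'') ((A.subgroupOf (G0 A K1 a) : Subgroup (G0 A K1 a)) : Set (G0 A K1 a))) :=
  Cfsg.Agent.Lib.Helper24.Pgv.off_section_of h (red_3_cor hp h).2 V' V'' h' h''
    (Cfsg.Agent.Lib.Helper64.PGV.sec_ineq (G0 A K1 a) A (le_sup_right) V' V'' h' h'' hle)

end Cfsg.Agent.Lib.Helper41.PGV.Red
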