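import Mathlib
import Cfsg.Prelude.Def_Local
import Cfsg.Prelude.Def_Transfer
import Cfsg.Agent.Lib.Helper41.PGV.Defs
import Cfsg.Agent.Lib.Helper41.PGV.Defs2
import Cfsg.Agent.Lib.Helper41.PGV.Main
import Cfsg.Agent.Lib.Helper41.PGV.Red
import Cfsg.Agent.Lib.Helper26.PGV.End2Defs
import Cfsg.Agent.Lib.Helper22.Components
import Cfsg.Agent.Lib.Helper14.PgvBridge

/-!
# Project PGV (S3086), sub-project RED, leaf [EVEN-ASM] (helper41): no minimal counterexample for `p = 2`, in `_of` form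

The only hypothesis is `End2` = the statement of `Cfsg.Agent.Lib.Helper26.PGV.end2_abs` (sub-project END2 of helper26) in the universe `v`.
`noCE_of : End2 → NoCE p` then closes the induction of `Main.lean`.
-/

set_option autoImplicit false

universe u v

namespace Cfsg.Agent.Lib.Helper41.PGV.Red

open Cfsg Cfsg.Agent.Lib.Helper41.PGV

/-- the statement of END2 (`Cfsg.Agent.Lib.Helper26.PGV.end2_abs`) with the group and the module in the universe `v` -/
def End2 : Prop :=
  ∀ {H : Type v} {W : Type v} [Group H] [AddCommGroup W] [Module (ZMod 2) W]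
    (r : Representation (ZMod 2) H W) (K B : Subgroup H) (a : H) [Finite H] [Finite W],
    Cfsg.Agent.Lib.Helper26.PGV.Cfg r K B a →
    2 * Nat.card B * Nat.card {w : W // r a w = w ∧ ∀ b ∈ B, r b w = w} < Nat.card W

variable {p : ℕ} [Fact p.Prime] {G V : Type v} [Group G] [Finite G] [AddCommGroup V] [Finite V] [Module (ZMod p) V]
  {ρ : Representation (ZMod p) G V} {A K1 : Subgroup G} {a : G}

instance sec_finite_h41 (V' V'' : Submodule (ZMod p) V) : Finite (Sec V' V'') :=
  Finite.of_surjective _ (Submodule.Quotient.mk_surjective _)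

/-- the subgroup of the elements stabilizing a submodule -/
def stabSub {H W : Type*} [Group H] [AddCommGroup W] [Module (ZMod p) W] (r : Representation (ZMod p) H W)
    (U : Submodule (ZMod p) W) : Subgroup H where
  carrier := {g | ∀ u, r g u ∈ U ↔ u ∈ U}
  one_mem' := fun u => by simp
  mul_mem' := fun {g g'} hg hg' u => by
    rw [map_mul, Module.End.mul_apply, hg, hg']
  inv_mem' := fun {g} hg u => by
    have h1 := hg (r g⁻¹ u)
    rw [← Module.End.mul_apply, ← map_mul, mul_inv_cancel, map_one, Module.End.one_apply] at h1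
    exact h1.symm

set_option maxHeartbeats 2000000 in
theorem ce_false_two_of (hend2 : End2.{v}) (hp : p = 2) (h : CE ρ A K1 a) : False := by
  subst hp
  obtain ⟨V', V'', h', h'', hle, hirr, hnt⟩ := Cfsg.Agent.Lib.Helper6.PGVW.exists_section h
  obtain ⟨hK1H, hK2H, hAH, hgen⟩ := g0_gen rfl h
  have haH : a ∈ G0 A K1 a := hAH h.mem
  have hBle : NA A K1 ≤ G0 A K1 a := le_trans inf_le_left hAH
  have hBA : NA A K1 ≤ A := inf_le_left
  have hcommA : ∀ x ∈ A, ∀ y ∈ A, x * y = y * x := by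
    intro x hx y hy
    have := h.el.1.is_comm.comm (⟨x, hx⟩ : A) ⟨y, hy⟩
    exact congrArg Subtype.val this
  have hsq : ∀ x ∈ A, x * x = 1 := by
    intro x hx
    have := h.el.2 x hx
    rwa [pow_two] at this
  have haa : (⟨a, haH⟩ : G0 A K1 a) * ⟨a, haH⟩ = 1 := Subtype.ext (hsq a h.mem)
  have hainv : (⟨a, haH⟩ : G0 A K1 a)⁻¹ = ⟨a, haH⟩ := inv_eq_of_mul_eq_one_right haa
  -- the data for END2
  have key := hend2 (secRep ρ (G0 A K1 a) V' V'' h' h'') (K1.subgroupOf (G0 A K1 a))
    ((NA A K1).subgroupOf (G0 A K1 a)) (⟨a, haH⟩ : G0 A K1 a) ⟨?_, ?_, ?_, ?_, ?_, ?_, ?_, ?_, ?_, ?_⟩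
  · -- contradiction with (OFF)
    have hoff := off_section rfl h V' V'' h' h'' hle
    have hcardB : Nat.card ((NA A K1).subgroupOf (G0 A K1 a)) = Nat.card (NA A K1) :=
      Nat.card_congr (Subgroup.subgroupOfEquivOfLe hBle).toEquiv
    have hfix : Nat.card (fix (secRep ρ (G0 A K1 a) V' V'' h' h'')
          ((A.subgroupOf (G0 A K1 a) : Subgroup (G0 A K1 a)) : Set (G0 A K1 a))) ≤
        Nat.card {w : Sec V' V'' // secRep ρ (G0 A K1 a) V' V'' h' h'' ⟨a, haH⟩ w = w ∧
          ∀ b ∈ (NA A K1).subgroupOf (G0 A K1 a), secRep ρ (G0 A K1 a) V' V'' h' h'' b w = w} := by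
      refine Nat.card_le_card_of_injective (fun x => ⟨x.1, x.2 ⟨a, haH⟩ h.mem, fun b hb => x.2 b (hBA hb)⟩) ?_
      intro x y hxy
      exact Subtype.ext (congrArg (fun z => z.1) hxy)
    rw [hcardB] at key
    have h2 := Nat.mul_le_mul_left (2 * Nat.card (NA A K1)) hfix
    omega
  · -- a² = 1
    exact haa
  · -- quasisimple
    exact (Cfsg.Agent.Lib.Helper22.component_subgroupOf h.comp hK1H).2
  · -- K1, K1^a commute
    intro x hx y hy
    have hK2 : IsComponent (K1.map (MulAut.conj a).toMonoidHom) := Cfsg.Agent.Lib.Helper22.component_conj h.comp a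
    have := components_commute h.comp hK2 (Ne.symm h.move) x.1 hx (a * y.1 * a⁻¹) ⟨y.1, hy, rfl⟩
    exact Subtype.ext this
  · -- B has exponent 2
    intro b hb
    exact Subtype.ext (hsq b.1 (hBA hb))
  · -- B commutes with a
    intro b hb
    exact Subtype.ext (hcommA b.1 (hBA hb) a h.mem)
  · -- B normalizes K1
    intro b hb x hx
    have hbN : b.1 ∈ Subgroup.normalizer (K1 : Set G) := (show b.1 ∈ NA A K1 from hb).2
    exact (Subgroup.mem_normalizer_iff.mp hbN x.1).mp hx
  · -- B faithful on K1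
    intro b hb hcent
    by_contra hb1
    have hb1' : b.1 ≠ 1 := fun hh => hb1 (Subtype.ext hh)
    have hbC : b.1 ∈ Subgroup.centralizer (K1 : Set G) := by
      rw [Subgroup.mem_centralizer_iff]
      intro x hx
      have h1 := hcent ⟨x, hK1H hx⟩ hx
      have h2 : b.1 * x * b.1⁻¹ = x := congrArg Subtype.val h1
      calc x * b.1 = (b.1 * x * b.1⁻¹) * b.1 := by rw [h2]
        _ = b.1 * x := by group
    refine red_D h (Subgroup.zpowers b.1) ?_ ?_ ?_
    · rw [Subgroup.zpowers_le]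
      exact hBA hb
    · rw [Subgroup.zpowers_ne_bot]
      exact hb1'
    · have hle2 : Subgroup.zpowers b.1 ≤ Subgroup.centralizer (K1 : Set G) := by
        rw [Subgroup.zpowers_le]
        exact hbC
      intro d hd x hx
      exact ((Subgroup.mem_centralizer_iff.1 (hle2 hd)) x hx).symm
  · -- irreducible under the generators
    intro U hU
    apply hirr.2 U
    have hgenS : ∀ g : G0 A K1 a, (g ∈ K1.subgroupOf (G0 A K1 a) ∨ g ∈ (NA A K1).subgroupOf (G0 A K1 a) ∨ g = ⟨a, haH⟩) →
        g ∈ stabSub (secRep ρ (G0 A K1 a) V' V'' h' h'') U := by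
      intro g hg u
      have hginv : g⁻¹ ∈ K1.subgroupOf (G0 A K1 a) ∨ g⁻¹ ∈ (NA A K1).subgroupOf (G0 A K1 a) ∨ g⁻¹ = ⟨a, haH⟩ := by
        rcases hg with hg | hg | hg
        · exact Or.inl (Subgroup.inv_mem _ hg)
        · exact Or.inr (Or.inl (Subgroup.inv_mem _ hg))
        · right; right
          rw [hg]
          exact hainv
      constructor
      · intro hu
        have h1 := hU g⁻¹ hginv _ hu
        rwa [← Module.End.mul_apply, ← map_mul, inv_mul_cancel, map_one, Module.End.one_apply] at h1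
      · intro hu
        exact hU g hg u hu
    have htop : (⊤ : Subgroup (G0 A K1 a)) ≤ stabSub (secRep ρ (G0 A K1 a) V' V'' h' h'') U := by
      intro g _
      set S := stabSub (secRep ρ (G0 A K1 a) V' V'' h' h'') U with hS
      have hle' : G0 A K1 a ≤ S.map (G0 A K1 a).subtype := by
        conv_lhs => rw [hgen]
        refine sup_le (sup_le (sup_le ?_ ?_) ?_) ?_
        · intro x hx
          exact ⟨⟨x, hK1H hx⟩, hgenS _ (Or.inl hx), rfl⟩
        · intro y hy
          obtain ⟨x, hx, rfl⟩ := mem_cj.mp hy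
          refine ⟨⟨a, haH⟩ * ⟨x, hK1H hx⟩ * (⟨a, haH⟩ : G0 A K1 a)⁻¹, ?_, rfl⟩
          have ha' : (⟨a, haH⟩ : G0 A K1 a) ∈ S := hgenS _ (Or.inr (Or.inr rfl))
          have hx' : (⟨x, hK1H hx⟩ : G0 A K1 a) ∈ S := hgenS _ (Or.inl hx)
          exact S.mul_mem (S.mul_mem ha' hx') (S.inv_mem ha')
        · intro x hx
          exact ⟨⟨x, hBle hx⟩, hgenS _ (Or.inr (Or.inl hx)), rfl⟩
        · rw [Subgroup.zpowers_le]
          exact ⟨⟨a, haH⟩, hgenS _ (Or.inr (Or.inr rfl)), rfl⟩
      obtain ⟨s, hs, hsg⟩ := hle' g.2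
      have : s = g := Subtype.ext hsg
      rw [← this]
      exact hs
    intro g u hu
    exact ((htop (Subgroup.mem_top g)) u).mpr hu
  · -- K1 non-trivial on the section
    by_contra hcon
    push Not at hcon
    apply hnt
    intro x hx
    apply LinearMap.ext
    intro w
    rw [Module.End.one_apply]
    exact hcon x hx w
  · -- (HD)
    intro x hx w
    have hcoe : ((x * (⟨a, haH⟩ * x * (⟨a, haH⟩ : G0 A K1 a)⁻¹) : G0 A K1 a) : G) = x.1 * (a * x.1 * a⁻¹) := by
      simp only [Subgroup.coe_mul, Subgroup.coe_inv]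
    have hz : (ρ ((x * (⟨a, haH⟩ * x * (⟨a, haH⟩ : G0 A K1 a)⁻¹) : G0 A K1 a) : G) - 1) *
        (ρ ((⟨a, haH⟩ : G0 A K1 a) : G) - 1) = 0 := by
      rw [hcoe]
      exact delta_triv rfl h x.1 hx
    have hfin := mul_eq_zero_section (G0 A K1 a) V' V'' h' h'' (x * (⟨a, haH⟩ * x * (⟨a, haH⟩ : G0 A K1 a)⁻¹)) ⟨a, haH⟩ hz
    have h3 := LinearMap.congr_fun hfin w
    simp only [Module.End.mul_apply, LinearMap.sub_apply, Module.End.one_apply, LinearMap.zero_apply] at h3
    exact sub_eq_zero.mp h3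

/-- no minimal counterexample exists (given END2) -/
theorem noCE_of (p : ℕ) [Fact p.Prime] (hend2 : End2.{v}) : NoCE.{v} p := by
  intro G V _ _ _ _ _ ρ A K1 a h
  by_cases hp : p = 2
  · exact ce_false_two_of hend2 hp h
  · exact ce_false_odd hp h

/-- **S3086** (groups and modules in arbitrary universes) given END2 in the universe of the module -/
theorem s3086_of_end2 {G : Type u} {V : Type v} [Group G] [Finite G] [AddCommGroup V] [Finite V]
    (p : ℕ) [Fact p.Prime] [Module (ZMod p) V] (hend2 : End2.{v})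
    (ρ : Representation (ZMod p) G V) (hρ : Function.Injective ρ)
    (A : Subgroup G) (hA : A ≠ ⊥) (hAel : Cfsg.IsElementaryAbelian p A)
    (hP : ∀ B : Subgroup G, B ≤ A →
      Nat.card ↥B * Nat.card {v : V // ∀ b ∈ B, ρ b v = v} ≤
        Nat.card ↥A * Nat.card {v : V // ∀ a ∈ A, ρ a v = v}) :
    ∀ K : Subgroup G, Cfsg.IsComponent K → A ≤ Subgroup.normalizer (K : Set G) :=
  Cfsg.Agent.Lib.Helper14.Pgv.s3086_of_gl p ρ hρ A hA hAel hP
    (fun _ _ _ ρ2 h1 A2 h2 h3 h4 => theoremGL_of p (noCE_of p hend2) ρ2 h1 A2 h2 h3 h4)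

end Cfsg.Agent.Lib.Helper41.PGV.Red
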