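import Mathlib
import Cfsg.Prelude.Def_Local
import Cfsg.Prelude.Def_Transfer
import Cfsg.Agent.Lib.Helper41.PGV.Even
import Cfsg.Agent.Lib.Helper94.PgvEnd2Glue

/-!
# Project PGV (S3086): RED (helper41) glued to END2 (helper94's glue): `S3086` from the single open leaf `SimpleStruct`
-/

set_option autoImplicit false

universe u v

namespace Cfsg.Agent.Lib.Helper41.PGV.Red

open Cfsg Cfsg.Agent.Lib.Helper41.PGV

/-- END2 from PGV-[SIMPLE-STRUCT] -/
theorem end2_of_struct (hs : Cfsg.Agent.Lib.Helper94.PGV.SimpleStruct.{v}) : End2.{v} := by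
  intro H W _ _ _ r K B a _ _ c
  exact Cfsg.Agent.Lib.Helper94.PGV.end2_abs_of_struct r K B a hs c

/-- **S3086** from PGV-[SIMPLE-STRUCT] in the universe of the module -/
theorem s3086_of_struct {G : Type u} {V : Type v} [Group G] [Finite G] [AddCommGroup V] [Finite V]
    (p : ℕ) [Fact p.Prime] [Module (ZMod p) V] (hs : Cfsg.Agent.Lib.Helper94.PGV.SimpleStruct.{v})
    (ρ : Representation (ZMod p) G V) (hρ : Function.Injective ρ)
    (A : Subgroup G) (hA : A ≠ ⊥) (hAel : Cfsg.IsElementaryAbelian p A)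
    (hP : ∀ B : Subgroup G, B ≤ A →
      Nat.card ↥B * Nat.card {v : V // ∀ b ∈ B, ρ b v = v} ≤
        Nat.card ↥A * Nat.card {v : V // ∀ a ∈ A, ρ a v = v}) :
    ∀ K : Subgroup G, Cfsg.IsComponent K → A ≤ Subgroup.normalizer (K : Set G) :=
  s3086_of_end2 p (end2_of_struct hs) ρ hρ A hA hAel hP

end Cfsg.Agent.Lib.Helper41.PGV.Red
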